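import Groth.Prelude.Def_Tors
import Mathlib.Algebra.Homology.DerivedCategory.Ext.ExactSequences
import Mathlib.CategoryTheory.Sites.EpiMono
import Mathlib.CategoryTheory.Sites.Subsheaf
import Mathlib.CategoryTheory.Preadditive.Injective.Basic

/-! # H¹ and torsors on a small site. -/

set_option autoImplicit false
set_option linter.style.haveILetI false
set_option backward.isDefEq.respectTransparency false
universe u

open CategoryTheory CategoryTheory.Limits Opposite CategoryTheory.Abelian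

noncomputable section

namespace Groth.Agent.TorsH19

variable {C : Type u} [SmallCategory C] {J : GrothendieckTopology C}

/-- A compatible family of sections. -/
structure Fam (F : Cᵒᵖ ⥤ AddCommGrpCat.{u}) where
  val : ∀ U, F.obj U
  map_val : ∀ {U V : Cᵒᵖ} (f : U ⟶ V), F.map f (val U) = val V

abbrev cst (C : Type u) [SmallCategory C] : Cᵒᵖ ⥤ AddCommGrpCat.{u} :=
  (Functor.const _).obj (AddCommGrpCat.of (ULift.{u} ℤ))

def famHom {F : Cᵒᵖ ⥤ AddCommGrpCat.{u}} (s : Fam F) : cst C ⟶ F where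
  app U := AddCommGrpCat.ofHom ((zmultiplesHom _ (s.val U)).comp AddEquiv.ulift.toAddMonoidHom)
  naturality U V f := by
    ext ⟨n⟩
    show n • s.val V = F.map f (n • s.val U)
    rw [map_zsmul, s.map_val]

def homFam {F : Cᵒᵖ ⥤ AddCommGrpCat.{u}} (φ : cst C ⟶ F) : Fam F where
  val U := φ.app U (ULift.up (1 : ℤ))
  map_val {U V} f := (ConcreteCategory.congr_hom (φ.naturality f) (ULift.up (1 : ℤ))).symm

theorem hom_ext' {F : Cᵒᵖ ⥤ AddCommGrpCat.{u}} {φ ψ : cst C ⟶ F}
    (h : ∀ U, φ.app U (ULift.up (1 : ℤ)) = ψ.app U (ULift.up (1 : ℤ))) : φ = ψ := by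
  ext U ⟨n⟩
  have : (ULift.up n : ULift.{u} ℤ) = n • ULift.up (1 : ℤ) := ULift.ext _ _ (by simp)
  rw [this]
  erw [map_zsmul, map_zsmul, h]

variable (G : Sheaf J AddCommGrpCat.{u}) {I : Sheaf J AddCommGrpCat.{u}} (ι : G ⟶ I) [Mono ι]

/-- The short exact sequence of an embedding. -/
abbrev seq : ShortComplex (Sheaf J AddCommGrpCat.{u}) := ShortComplex.mk ι (cokernel.π ι) (cokernel.condition ι)

theorem seq_shortExact : (seq G ι).ShortExact where
  exact := ShortComplex.exact_of_g_is_cokernel _ (cokernelIsCokernel ι)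
  mono_f := inferInstanceAs (Mono ι)
  epi_g := inferInstanceAs (Epi (cokernel.π ι))

theorem app_injective (U : Cᵒᵖ) : Function.Injective (ι.hom.app U) := by
  haveI : Mono ι.hom := inferInstanceAs (Mono ((sheafToPresheaf J _).map ι))
  haveI : Mono (ι.hom.app U) := inferInstance
  exact (AddCommGrpCat.mono_iff_injective _).1 inferInstance

theorem π_app_eq_zero_iff (U : Cᵒᵖ) (x : I.obj.obj U) :
    (cokernel.π ι).hom.app U x = 0 ↔ ∃ g : G.obj.obj U, ι.hom.app U g = x := by
  let E : Sheaf J AddCommGrpCat.{u} ⥤ AddCommGrpCat.{u} := sheafToPresheaf J _ ⋙ (evaluation _ _).obj U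
  constructor
  · intro h
    have hex : ((seq G ι).map E).Exact :=
      (seq_shortExact G ι).exact.map_of_mono_of_preservesKernel E (seq_shortExact G ι).mono_f inferInstance
    rw [ShortComplex.ab_exact_iff] at hex
    exact hex x h
  · rintro ⟨g, rfl⟩
    exact ConcreteCategory.congr_hom
      (congrArg (fun m : G ⟶ cokernel ι => m.hom.app U) (cokernel.condition ι)) g

/-- Liftability of global sections of the cokernel. -/
def Lifts : Prop := ∀ q : Fam (cokernel ι).obj, ∃ i : Fam I.obj, ∀ U, (cokernel.π ι).hom.app U (i.val U) = q.val U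

theorem subsingleton_H_iff [Injective I] : Subsingleton (Sheaf.H.{u} G 1) ↔ Lifts G ι := by
  let Z := (constantSheaf J AddCommGrpCat.{u}).obj (AddCommGrpCat.of (ULift.{u} ℤ))
  let adj : ∀ F : Sheaf J AddCommGrpCat.{u}, (Z ⟶ F) ≃ (cst C ⟶ F.obj) := fun F =>
    (sheafificationAdjunction J AddCommGrpCat.{u}).homEquiv (cst C) F
  have hadj : ∀ {F F' : Sheaf J AddCommGrpCat.{u}} (φ : Z ⟶ F) (m : F ⟶ F'),
      adj F' (φ ≫ m) = adj F φ ≫ m.hom := fun φ m =>
    (sheafificationAdjunction J AddCommGrpCat.{u}).homEquiv_naturality_right φ m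
  constructor
  · intro hsub q
    let φ : Z ⟶ cokernel ι := (adj _).symm (famHom q)
    obtain ⟨x₂, hx₂⟩ := Ext.covariant_sequence_exact₃ Z (seq_shortExact G ι) (Ext.mk₀ φ) rfl
      (@Subsingleton.elim _ hsub _ 0)
    obtain ⟨ψ, rfl⟩ := (Ext.mk₀_bijective _ _).2 x₂
    rw [Ext.mk₀_comp_mk₀] at hx₂
    have h := (Ext.mk₀_bijective _ _).1 hx₂
    refine ⟨homFam (adj I ψ), fun U => ?_⟩
    show ((adj I ψ) ≫ (cokernel.π ι).hom).app U (ULift.up (1 : ℤ)) = _
    rw [← hadj, h, Equiv.apply_symm_apply]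
    exact one_zsmul _
  · intro hl
    refine subsingleton_of_forall_eq 0 fun x => ?_
    obtain ⟨x₃, rfl⟩ := Ext.covariant_sequence_exact₁ Z (seq_shortExact G ι) x
      (Ext.eq_zero_of_injective _) rfl
    obtain ⟨φ, rfl⟩ := (Ext.mk₀_bijective _ _).2 x₃
    obtain ⟨i, hi⟩ := hl (homFam (adj _ φ))
    have : ((adj I).symm (famHom i)) ≫ cokernel.π ι = φ := by
      apply (adj _).injective
      rw [hadj, Equiv.apply_symm_apply]
      refine hom_ext' fun U => ?_
      show (cokernel.π ι).hom.app U ((1 : ℤ) • i.val U) = _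
      rw [one_zsmul, hi U]
      rfl
    rw [← this, ← Ext.mk₀_comp_mk₀, Ext.comp_assoc_of_second_deg_zero]
    erw [(seq_shortExact G ι).comp_extClass]
    rw [Ext.comp_zero]

theorem isSheaf_forget (F : Sheaf J AddCommGrpCat.{u}) : Presieve.IsSheaf J (F.obj ⋙ forget AddCommGrpCat.{u}) :=
  (isSheaf_iff_isSheaf_of_type _ _).1 ((sheafCompose J (forget AddCommGrpCat.{u})).obj F).property

section ToTorsor

variable (q : Fam (cokernel ι).obj)

/-- Lifts of a section of the cokernel. -/
def liftSub : Subfunctor (I.obj ⋙ forget AddCommGrpCat.{u}) where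
  obj U := {x | (cokernel.π ι).hom.app U x = q.val U}
  map {U V} f x hx := by
    show (cokernel.π ι).hom.app V (I.obj.map f x) = q.val V
    rw [← q.map_val f, ← (show (cokernel.π ι).hom.app U x = q.val U from hx)]
    exact ConcreteCategory.congr_hom ((cokernel.π ι).hom.naturality f) x

theorem liftSub_isSheaf : Presieve.IsSheaf J (liftSub G ι q).toFunctor := by
  rw [Subfunctor.isSheaf_iff _ (isSheaf_forget I)]
  intro U s hs
  show (cokernel.π ι).hom.app U s = q.val U
  refine ((isSheaf_forget (cokernel ι)) _ hs).isSeparatedFor.ext fun V f hf => ?_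
  have h : (cokernel.π ι).hom.app (op V) (I.obj.map f.op s) = q.val (op V) := hf
  refine Eq.trans ?_ (h.trans (q.map_val f.op).symm)
  exact (ConcreteCategory.congr_hom ((cokernel.π ι).hom.naturality f.op) s).symm

/-- The underlying section of a lift. -/
def sval {U : Cᵒᵖ} (p : (liftSub G ι q).toFunctor.obj U) : I.obj.obj U := p.1

/-- The torsor of lifts. -/
def liftTorsor : Tors.Torsor G where
  P := ⟨(liftSub G ι q).toFunctor, (isSheaf_iff_isSheaf_of_type _ _).2 (liftSub_isSheaf G ι q)⟩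
  vadd {U} g p := ⟨ι.hom.app U g + sval G ι q p, by
    show (cokernel.π ι).hom.app U (ι.hom.app U g + sval G ι q p) = q.val U
    rw [map_add, (π_app_eq_zero_iff G ι U _).2 ⟨g, rfl⟩, zero_add]
    exact p.2⟩
  zero_vadd {U} p := Subtype.ext (by show ι.hom.app U 0 + sval G ι q p = sval G ι q p; rw [map_zero, zero_add])
  add_vadd {U} g h p := Subtype.ext (by
    show ι.hom.app U (g + h) + sval G ι q p = ι.hom.app U g + (ι.hom.app U h + sval G ι q p)
    rw [map_add, add_assoc])
  map_vadd {U V} f g p := Subtype.ext (by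
    show I.obj.map f (ι.hom.app U g + sval G ι q p) = ι.hom.app V (G.obj.map f g) + I.obj.map f (sval G ι q p)
    rw [map_add]
    congr 1
    exact (ConcreteCategory.congr_hom (ι.hom.naturality f) g).symm)
  free_transitive {U} p p' := by
    obtain ⟨g, hg⟩ := (π_app_eq_zero_iff G ι U (sval G ι q p' - sval G ι q p)).1 (by
      rw [map_sub, sub_eq_zero]; exact p'.2.trans p.2.symm)
    refine ⟨g, Subtype.ext (by show ι.hom.app U g + sval G ι q p = sval G ι q p'; rw [hg, sub_add_cancel]), fun g' hg' => ?_⟩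
    apply app_injective G ι U
    rw [hg, eq_sub_iff_add_eq]
    exact congrArg Subtype.val hg'
  locally_nonempty U := by
    haveI : Sheaf.IsLocallySurjective (cokernel.π ι) := (Sheaf.isLocallySurjective_iff_epi' (A := AddCommGrpCat.{u}) _).2 inferInstance
    refine ⟨_, Presheaf.imageSieve_mem J (cokernel.π ι).hom (q.val (op U)), fun V f hf => ?_⟩
    obtain ⟨t, ht⟩ := hf
    exact ⟨⟨t, ht.trans (q.map_val f.op)⟩⟩

theorem exists_lift_of_hasSection (h : (liftTorsor G ι q).HasSection) :
    ∃ i : Fam I.obj, ∀ U, (cokernel.π ι).hom.app U (i.val U) = q.val U := by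
  obtain ⟨s⟩ := h
  let z := terminal.from ((sheafCompose J (forget AddCommGrpCat.{u})).obj G)
  let p : ∀ U, (liftSub G ι q).obj U := fun U => (z ≫ s).hom.app U (0 : G.obj.obj U)
  refine ⟨⟨fun U => (p U).1, fun {U V} f => ?_⟩, fun U => (p U).2⟩
  have h2 := ConcreteCategory.congr_hom ((z ≫ s).hom.naturality f) (0 : G.obj.obj U)
  have h3 : G.obj.map f (0 : G.obj.obj U) = 0 := map_zero _
  exact congrArg Subtype.val (h2.symm.trans (congrArg ((z ≫ s).hom.app V) h3))

end ToTorsor

section Linearize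

variable {G} (T : Tors.Torsor G)

/-- Relations of the linearised torsor. -/
def relSet (U : Cᵒᵖ) : Set (G.obj.obj U × (T.P.obj.obj U →₀ ℤ)) :=
  Set.range fun x : G.obj.obj U × T.P.obj.obj U =>
    (-x.1, Finsupp.single (T.vadd x.1 x.2) (1 : ℤ) - Finsupp.single x.2 (1 : ℤ))

/-- The pushforward along a restriction. -/
def linMap {U V : Cᵒᵖ} (f : U ⟶ V) :
    G.obj.obj U × (T.P.obj.obj U →₀ ℤ) →+ G.obj.obj V × (T.P.obj.obj V →₀ ℤ) :=
  AddMonoidHom.prodMap (G.obj.map f).hom (Finsupp.mapDomain.addMonoidHom fun p => T.P.obj.map f p)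

theorem linMap_rel {U V : Cᵒᵖ} (f : U ⟶ V) :
    AddSubgroup.closure (relSet T U) ≤ (AddSubgroup.closure (relSet T V)).comap (linMap T f) := by
  rw [AddSubgroup.closure_le]
  rintro _ ⟨⟨g, p⟩, rfl⟩
  refine AddSubgroup.subset_closure ⟨(G.obj.map f g, T.P.obj.map f p), ?_⟩
  show _ = (G.obj.map f (-g), Finsupp.mapDomain (fun p => T.P.obj.map f p)
    (Finsupp.single (T.vadd g p) (1 : ℤ) - Finsupp.single p (1 : ℤ)))
  rw [map_neg, Finsupp.mapDomain_sub, Finsupp.mapDomain_single, Finsupp.mapDomain_single, T.map_vadd]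

/-- The extension presheaf. -/
def lin : Cᵒᵖ ⥤ AddCommGrpCat.{u} where
  obj U := AddCommGrpCat.of ((G.obj.obj U × (T.P.obj.obj U →₀ ℤ)) ⧸ AddSubgroup.closure (relSet T U))
  map {U V} f := AddCommGrpCat.ofHom (QuotientAddGroup.map _ _ (linMap T f) (linMap_rel T f))
  map_id U := by
    ext x
    obtain ⟨g, c⟩ := x
    refine congrArg QuotientAddGroup.mk (Prod.ext ?_ ?_)
    · exact ConcreteCategory.congr_hom (G.obj.map_id U) g
    · show Finsupp.mapDomain (fun p => T.P.obj.map (𝟙 U) p) c = c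
      rw [T.P.obj.map_id]
      exact Finsupp.mapDomain_id
  map_comp {U V W} f g := by
    ext x
    obtain ⟨a, c⟩ := x
    refine congrArg QuotientAddGroup.mk (Prod.ext ?_ ?_)
    · exact ConcreteCategory.congr_hom (G.obj.map_comp f g) a
    · show Finsupp.mapDomain (fun p => T.P.obj.map (f ≫ g) p) c =
        Finsupp.mapDomain (fun p => T.P.obj.map g p) (Finsupp.mapDomain (fun p => T.P.obj.map f p) c)
      rw [← Finsupp.mapDomain_comp, T.P.obj.map_comp]
      rfl

/-- The inclusion of the coefficients. -/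
def linInl : G.obj ⟶ lin T where
  app U := AddCommGrpCat.ofHom ((QuotientAddGroup.mk' _).comp (AddMonoidHom.inl _ _))
  naturality U V f := by
    ext g
    refine congrArg QuotientAddGroup.mk (Prod.ext rfl ?_)
    exact (Finsupp.mapDomain_zero (f := fun p => T.P.obj.map f p)).symm

instance : Mono (linInl T) := by
  haveI : ∀ U, Mono ((linInl T).app U) := fun U => by
    rw [AddCommGrpCat.mono_iff_injective, injective_iff_map_eq_zero]
    intro g hg
    have hg' : ((g, 0) : G.obj.obj U × (T.P.obj.obj U →₀ ℤ)) ∈ AddSubgroup.closure (relSet T U) :=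
      (QuotientAddGroup.eq_zero_iff _).1 hg
    rcases isEmpty_or_nonempty (T.P.obj.obj U) with he | ⟨⟨p₀⟩⟩
    · have : relSet T U = ∅ := Set.range_eq_empty _
      rw [this, AddSubgroup.closure_empty, AddSubgroup.mem_bot] at hg'
      exact congrArg Prod.fst hg'
    · choose d hd hdu using fun p => T.free_transitive p₀ p
      let r : G.obj.obj U × (T.P.obj.obj U →₀ ℤ) →+ G.obj.obj U :=
        AddMonoidHom.coprod (AddMonoidHom.id _) (Finsupp.liftAddHom fun p => zmultiplesHom _ (d p))
      have hle : AddSubgroup.closure (relSet T U) ≤ r.ker := by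
        rw [AddSubgroup.closure_le]
        rintro _ ⟨⟨a, p⟩, rfl⟩
        have ha : d (T.vadd a p) = a + d p :=
          (hdu (T.vadd a p) (a + d p) (by show T.vadd (a + d p) p₀ = _; rw [T.add_vadd, hd p])).symm
        show -a + Finsupp.liftAddHom (fun p => zmultiplesHom _ (d p))
          (Finsupp.single (T.vadd a p) (1 : ℤ) - Finsupp.single p (1 : ℤ)) = 0
        rw [map_sub, Finsupp.liftAddHom_apply_single, Finsupp.liftAddHom_apply_single]
        show -a + ((1 : ℤ) • d (T.vadd a p) - (1 : ℤ) • d p) = 0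
        rw [one_zsmul, one_zsmul, ha]
        abel
      have h2 : g + Finsupp.liftAddHom (fun p => zmultiplesHom _ (d p)) 0 = 0 := hle hg'
      rwa [map_zero, add_zero] at h2
  exact NatTrans.mono_of_mono_app _

end Linearize

theorem hasSection_of_lifts [Injective I] (hl : Lifts G ι) (T : Tors.Torsor G) : T.HasSection := by
  haveI : Injective ((sheafToPresheaf J AddCommGrpCat.{u}).obj I) :=
    Injective.injective_of_adjoint (sheafificationAdjunction J _) I
  haveI : Injective I.obj := this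
  let θ : lin T ⟶ I.obj := Injective.factorThru ι.hom (linInl T)
  have hθ : linInl T ≫ θ = ι.hom := Injective.comp_factorThru _ _
  let ψ : ∀ {U : Cᵒᵖ}, T.P.obj.obj U → I.obj.obj U := fun {U} p =>
    θ.app U (QuotientAddGroup.mk ((0, Finsupp.single p 1) : G.obj.obj U × (T.P.obj.obj U →₀ ℤ)))
  have hψ : ∀ {U : Cᵒᵖ} (g : G.obj.obj U) (p : T.P.obj.obj U), ψ (T.vadd g p) = ι.hom.app U g + ψ p := by
    intro U g p
    rw [← ConcreteCategory.congr_hom (congrArg (fun m => m.app U) hθ) g]
    show θ.app U _ = θ.app U (QuotientAddGroup.mk (g, 0)) + θ.app U _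
    rw [← map_add]
    refine congrArg _ ((QuotientAddGroup.eq_iff_sub_mem).2 (AddSubgroup.subset_closure ⟨(g, p), ?_⟩))
    ext1 <;> simp
  have hψn : ∀ {U V : Cᵒᵖ} (f : U ⟶ V) (p : T.P.obj.obj U), I.obj.map f (ψ p) = ψ (T.P.obj.map f p) := by
    intro U V f p
    refine ((ConcreteCategory.congr_hom (θ.naturality f) _).symm).trans ?_
    refine congrArg (θ.app V) (congrArg QuotientAddGroup.mk (Prod.ext (map_zero (G.obj.map f).hom) ?_))
    exact Finsupp.mapDomain_single
  -- the obstruction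
  let π := (cokernel.π ι).hom
  have hconst : ∀ {U : Cᵒᵖ} (p p' : T.P.obj.obj U), π.app U (ψ p) = π.app U (ψ p') := by
    intro U p p'
    obtain ⟨g, hg, -⟩ := T.free_transitive p p'
    rw [← hg, hψ, map_add, (π_app_eq_zero_iff G ι U _).2 ⟨g, rfl⟩, zero_add]
  have hπn : ∀ {U V : Cᵒᵖ} (f : U ⟶ V) (p : T.P.obj.obj U), (cokernel ι).obj.map f (π.app U (ψ p)) = π.app V (ψ (T.P.obj.map f p)) :=
    fun {U V} f p => by rw [← hψn]; exact (ConcreteCategory.congr_hom (π.naturality f) (ψ p)).symm
  choose S hS hSne using T.locally_nonempty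
  have hq : ∀ U : Cᵒᵖ, ∃! x : (cokernel ι).obj.obj U,
      ∀ ⦃V : C⦄ (f : op V = op V) (m : V ⟶ U.unop) (p : T.P.obj.obj (op V)),
        (cokernel ι).obj.map m.op x = π.app _ (ψ p) := by
    intro U
    have hsh := isSheaf_forget (cokernel ι) (S U.unop) (hS U.unop)
    let fam : Presieve.FamilyOfElements ((cokernel ι).obj ⋙ forget AddCommGrpCat.{u}) (S U.unop).arrows :=
      fun V f hf => π.app _ (ψ (hSne U.unop f hf).some)
    have hcomp : fam.Compatible := fun V₁ V₂ W g₁ g₂ f₁ f₂ h₁ h₂ _ => by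
      show (cokernel ι).obj.map g₁.op (π.app _ (ψ _)) = (cokernel ι).obj.map g₂.op (π.app _ (ψ _))
      rw [hπn, hπn]
      exact hconst _ _
    refine ⟨hsh.amalgamate fam hcomp, fun V _ m p => ?_, fun y hy => ?_⟩
    · refine ((isSheaf_forget (cokernel ι)) _ (J.pullback_stable m (hS U.unop))).isSeparatedFor.ext fun W h hh => ?_
      show (cokernel ι).obj.map h.op ((cokernel ι).obj.map m.op _) = (cokernel ι).obj.map h.op (π.app _ (ψ p))
      rw [← ConcreteCategory.comp_apply, ← Functor.map_comp, ← op_comp, hπn]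
      exact (hsh.valid_glue hcomp _ hh).trans (hconst _ _)
    · refine hsh.isSeparatedFor.ext fun V f hf => ?_
      exact (hy rfl f _).trans (hsh.valid_glue hcomp f hf).symm
  choose qv hqv hqu using hq
  obtain ⟨i, hi⟩ := hl ⟨qv, fun {U V} f => hqu V _ fun W _ m p => by
    rw [← ConcreteCategory.comp_apply, ← Functor.map_comp]
    exact hqv U rfl (m ≫ f.unop) p⟩
  have huniq : ∀ {U : Cᵒᵖ} (p p' : T.P.obj.obj U), ψ p = i.val U → ψ p' = i.val U → p = p' := by
    intro U p p' hp hp'
    obtain ⟨g, hg, -⟩ := T.free_transitive p p'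
    have h0 : ι.hom.app U g = 0 := by
      have := hψ g p
      rw [hg, hp', hp] at this
      exact right_eq_add.1 this
    rw [← hg, app_injective G ι U (h0.trans (map_zero _).symm), T.zero_vadd]
  have hex : ∀ U : Cᵒᵖ, Nonempty (T.P.obj.obj U) → ∃ p : T.P.obj.obj U, ψ p = i.val U := by
    rintro U ⟨p⟩
    obtain ⟨g, hg⟩ := (π_app_eq_zero_iff G ι U (i.val U - ψ p)).1 (by
      rw [map_sub, sub_eq_zero, hi U]
      have h := hqv U rfl (𝟙 _) p
      rw [op_id, CategoryTheory.Functor.map_id] at h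
      exact h)
    exact ⟨T.vadd g p, by rw [hψ, hg, sub_add_cancel]⟩
  have hP := (isSheaf_iff_isSheaf_of_type _ _).1 T.P.property
  have hsec : ∀ U : Cᵒᵖ, ∃ p : T.P.obj.obj U, ψ p = i.val U := by
    intro U
    have hsh := hP (S U.unop) (hS U.unop)
    let fam : Presieve.FamilyOfElements T.P.obj (S U.unop).arrows := fun V f hf => (hex _ (hSne U.unop f hf)).choose
    have hfam : ∀ {V : C} (f : V ⟶ U.unop) (hf : S U.unop f), ψ (fam f hf) = i.val (op V) := fun f hf =>
      (hex _ (hSne U.unop f hf)).choose_spec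
    have hcomp : fam.Compatible := fun V₁ V₂ W g₁ g₂ f₁ f₂ h₁ h₂ _ =>
      huniq _ _ (by rw [← hψn g₁.op, hfam f₁ h₁]; exact i.map_val g₁.op) (by rw [← hψn g₂.op, hfam f₂ h₂]; exact i.map_val g₂.op)
    refine hex U ⟨hsh.amalgamate fam hcomp⟩
  choose sec hsec' using hsec
  exact ⟨⟨{ app := fun U => TypeCat.ofHom fun _ => sec U
            naturality := fun U V f => by
              ext x
              exact huniq _ _ (hsec' V) (by
                show ψ (T.P.obj.map f (sec U)) = i.val V
                rw [← hψn, hsec' U, i.map_val]) }⟩⟩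

end Groth.Agent.TorsH19
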